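import Cfsg.Agent.H56.RuTits.Simple
import Cfsg.Prelude.Def_Sporadic

/-!
From any faithful representation of a simple group of order 145926144000 on the 4060 points that
hits the two generators: the permutation group realisation of the Rudvalis group.
-/

set_option autoImplicit false
set_option maxRecDepth 100000

open Equiv Cfsg.Agent.H16 Cfsg.Agent.H36 Cfsg.Agent.H36.AutEngine

namespace Cfsg.Agent.H56.RuTits

noncomputable section

theorem le_card_ruPerm : 145926144000 ≤ Nat.card ruPerm := by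
  refine le_trans (le_of_eq prodG.symm) ((Ctx.prodCnt_le sigG sigG_rep slpG_ok levelsG_ok).trans
    (le_of_eq ?_))
  exact congrArg (fun H : Subgroup (Perm (Fin 4060)) => Nat.card H) closure_sigG

variable {G : Type*} [Group G] (φ : G →* Perm (Fin 4060)) (hφ : Function.Injective φ)
  (h0 : g0 ∈ φ.range) (h1 : g1 ∈ φ.range) (hG : Nat.card G = 145926144000)

include hφ h0 h1 hG

theorem range_eq_ruPerm : φ.range = ruPerm := by
  refine (Subgroup.eq_of_le_of_card_ge ((Subgroup.closure_le _).2 ?_) ?_).symm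
  · rintro g (rfl | rfl)
    exacts [h0, h1]
  · rw [← Nat.card_congr (MonoidHom.ofInjective hφ).toEquiv, hG]
    exact le_card_ruPerm

theorem card_ruPerm : Nat.card ruPerm = 145926144000 := by
  rw [← range_eq_ruPerm φ hφ h0 h1 hG, ← Nat.card_congr (MonoidHom.ofInjective hφ).toEquiv, hG]

omit hφ h0 h1 hG in
theorem isPretransitive_ruPerm : MulAction.IsPretransitive ruPerm (Fin 4060) := by
  have h : ∀ x : Fin 4060, ∃ g ∈ ruPerm, g (0 : Fin 4060) = x := fun x => by
    have hx : Ctx.rank gLev0 x ≠ 0 := by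
      intro e
      have := allFrom_spec (show allFrom (fun y => !(Nat.beq (Ctx.rank gLev0 y) 0)) 4060 0 = true
        by decide +kernel) x (Nat.zero_le _) (by omega)
      rw [e] at this
      exact Bool.noConfusion this
    have hok : ctxG.levelOk [] gLev0 = true :=
      ((Bool.and_eq_true _ _).mp
        (show (ctxG.levelOk [] gLev0 && ctxG.levelsOk [gLev1, gLev2, gLev3] [gLev0.b]) = true
          from levelsG_ok)).1
    obtain ⟨⟨hK, hb, -, -⟩, -⟩ := trv_spec sigG sigG_rep slpG_ok hok (t := x) hx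
    exact ⟨_, closure_sigG.le ((Subgroup.closure_le _).2 (fun g hg => hg.1) hK),
      hb (0 : Fin 4060) rfl⟩
  refine ⟨fun x y => ?_⟩
  obtain ⟨a, ha, hax⟩ := h x
  obtain ⟨b, hb, hby⟩ := h y
  refine ⟨⟨b * a⁻¹, ruPerm.mul_mem hb (ruPerm.inv_mem ha)⟩, ?_⟩
  show b (a⁻¹ x) = y
  rw [← hax, show a⁻¹ (a 0) = 0 from a.symm_apply_apply 0, hby]

/-- The realisation on 4060 points. -/
theorem exists_rudvalis_realization (hs : IsSimpleGroup G) :
    ∃ H : Subgroup (Equiv.Perm (Fin 4060)), Cfsg.IsRu H ∧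
      MulAction.IsPretransitive H (Fin 4060) ∧
      Nat.card (MulAction.stabilizer H (0 : Fin 4060)) = 35942400 ∧
      ∃ T : Subgroup (MulAction.stabilizer H (0 : Fin 4060)), Cfsg.IsTits T := by
  have hcard := card_ruPerm φ hφ h0 h1 hG
  have hp := isPretransitive_ruPerm
  let e : G ≃* ruPerm := (MonoidHom.ofInjective hφ).trans
    (MulEquiv.subgroupCongr (range_eq_ruPerm φ hφ h0 h1 hG))
  refine ⟨ruPerm, ⟨?_, hcard⟩, hp, ?_, ?_⟩
  · exact e.symm.isSimpleGroup
  · have h := Subgroup.card_eq_card_quotient_mul_card_subgroup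
      (MulAction.stabilizer ruPerm (0 : Fin 4060))
    rw [← Nat.card_congr (MulAction.orbitEquivQuotientStabilizer ruPerm (0 : Fin 4060)),
      MulAction.orbit_eq_univ, Nat.card_coe_set_eq, Set.ncard_univ, Nat.card_fin, hcard] at h
    omega
  · obtain ⟨T, hT, hfix, hsimple, hTc⟩ := exists_tits_in_stabilizer hcard
    let T₀ : Subgroup (MulAction.stabilizer ruPerm (0 : Fin 4060)) :=
      T.comap (ruPerm.subtype.comp (MulAction.stabilizer ruPerm (0 : Fin 4060)).subtype)
    let eT : T₀ ≃* T :=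
      { toFun := fun g => ⟨_, g.2⟩
        invFun := fun g => ⟨⟨⟨g, hT g.2⟩, hfix g g.2⟩, g.2⟩
        left_inv := fun g => rfl
        right_inv := fun g => rfl
        map_mul' := fun a b => rfl }
    exact ⟨T₀, eT.isSimpleGroup, (Nat.card_congr eT.toEquiv).trans hTc⟩

end

end Cfsg.Agent.H56.RuTits
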