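import Cfsg.Agent.H56.RuTits.OtherOrbit
import Cfsg.Agent.H56.RuTits.Model
import Mathlib.GroupTheory.GroupAction.Blocks

/-!
The permutation group on 4060 points is simple once it has order 145926144000.
-/

set_option autoImplicit false
set_option maxRecDepth 100000

open Equiv Cfsg.Agent.H16 Cfsg.Agent.H36 Cfsg.Agent.H36.AutEngine

namespace Cfsg.Agent.H56.RuTits

noncomputable section

/-- The base point of the other orbit. -/
def pC : Fin 4060 := ⟨otherLev.b, Nat.blt_eq.mp rfl⟩

theorem sigT_orbit_other {x : Fin 4060} (hx : Ctx.rank otherLev x ≠ 0) :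
    ∃ g ∈ titsPerm, g pC = x := by
  obtain ⟨⟨hK, hb, -, -⟩, -⟩ := trv_spec sigT sigT_rep slpT_ok otherLev_ok (t := x) hx
  exact ⟨_, (Subgroup.closure_le _).2 (fun g hg => hg.1) hK, hb pC rfl⟩

theorem g0_pow_seven : g0 ^ 7 = 1 := by
  have h : allFrom (fun x => Nat.beq (pim 12 g0P (pim 12 g0P (pim 12 g0P (pim 12 g0P (pim 12 g0P
      (pim 12 g0P (pim 12 g0P x))))))) x) 4060 0 = true := by decide +kernel
  refine Equiv.ext fun x => Fin.ext ?_
  have hx := Nat.eq_of_beq_eq_true (allFrom_spec h x (Nat.zero_le _) (by omega))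
  simp only [← g0_apply] at hx
  simpa [pow_succ, Perm.mul_apply] using hx

/-- The product of the second generator with the fourth power of the first. -/
def g14 : Perm (Fin 4060) := g1 * (g0 * (g0 * (g0 * g0)))

theorem g14_pow : g14 ^ 13 = 1 := by
  have h : allFrom (fun x => Nat.beq (iterPt (fun y => forceNat (pim 12 g0P y) fun y =>
      forceNat (pim 12 g0P y) fun y => forceNat (pim 12 g0P y) fun y =>
      forceNat (pim 12 g0P y) fun y => pim 12 g1P y) 13 x) x) 4060 0 = true := by decide +kernel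
  refine Equiv.ext fun x => Fin.ext ?_
  have hx := Nat.eq_of_beq_eq_true (allFrom_spec h x (Nat.zero_le _) (by omega))
  rw [Ctx.iterPt_spec (D := ctxG) (g := g14) (fun y => by
    simp only [forceNat_eq]
    rw [← g0_apply y, ← g0_apply, ← g0_apply, ← g0_apply, ← g1_apply]
    rfl) 13 x] at hx
  exact hx

variable (hcard : Nat.card ruPerm = 145926144000)

include hcard

theorem card_stab : Nat.card (MulAction.stabilizer ruPerm (0 : Fin 4060)) = 35942400 := by
  have hp := isPretransitive_ruPerm
  have h := Subgroup.card_eq_card_quotient_mul_card_subgroup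
    (MulAction.stabilizer ruPerm (0 : Fin 4060))
  rw [← Nat.card_congr (MulAction.orbitEquivQuotientStabilizer ruPerm (0 : Fin 4060)),
    MulAction.orbit_eq_univ, Nat.card_coe_set_eq, Set.ncard_univ, Nat.card_fin, hcard] at h
  omega

/-- A non-trivial normal subgroup is transitive. -/
theorem normal_transitive (N : Subgroup ruPerm) [N.Normal] (hN : N ≠ ⊥) :
    MulAction.orbit N (0 : Fin 4060) = Set.univ := by
  have hp := isPretransitive_ruPerm
  set B := MulAction.orbit N (0 : Fin 4060)
  have hB : MulAction.IsBlock ruPerm B := MulAction.IsBlock.orbit_of_normal (0 : Fin 4060)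
  have h0 : (0 : Fin 4060) ∈ B := MulAction.mem_orbit_self _
  have hT : ∀ g ∈ titsPerm, ∀ y, y ∈ B → g y ∈ B := by
    rintro g hg y ⟨⟨n, hn⟩, rfl⟩
    refine ⟨⟨⟨g, titsPerm_le hg⟩ * n * (⟨g, titsPerm_le hg⟩ : ruPerm)⁻¹,
      Subgroup.Normal.conj_mem inferInstance n hn _⟩, ?_⟩
    show g ((n : Perm (Fin 4060)) (g⁻¹ 0)) = _
    rw [show g⁻¹ (0 : Fin 4060) = 0 from by
      rw [Perm.inv_eq_iff_eq, titsPerm_zero g hg]]
    rfl
  have horb1 : ∀ x y : Fin 4060, Ctx.rank tLev0 x ≠ 0 → Ctx.rank tLev0 y ≠ 0 → x ∈ B → y ∈ B := by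
    intro x y hx hy hxB
    have hb : pB ∈ B := by
      have := hT _ (titsPerm.inv_mem (trv_top hx).1) x hxB
      rwa [show (tr x)⁻¹ x = pB from by rw [Perm.inv_eq_iff_eq, (trv_top hx).2]] at this
    have := hT _ (trv_top hy).1 pB hb
    rwa [(trv_top hy).2] at this
  have horb2 : ∀ x y : Fin 4060, Ctx.rank otherLev x ≠ 0 → Ctx.rank otherLev y ≠ 0 →
      x ∈ B → y ∈ B := by
    intro x y hx hy hxB
    obtain ⟨g, hg, e⟩ := sigT_orbit_other hx
    obtain ⟨g', hg', e'⟩ := sigT_orbit_other hy
    have hb : pC ∈ B := by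
      have := hT _ (titsPerm.inv_mem hg) x hxB
      rwa [show g⁻¹ x = pC from by rw [Perm.inv_eq_iff_eq, e]] at this
    have := hT _ hg' pC hb
    rwa [e'] at this
  have hcls : ∀ x : Fin 4060, x = 0 ∨ Ctx.rank tLev0 x ≠ 0 ∨ Ctx.rank otherLev x ≠ 0 := fun x => by
    have := allFrom_spec orbits_ok x (Nat.zero_le _) (by omega)
    simp only [Bool.or_eq_true, Bool.not_eq_true'] at this
    rcases this with (h | h) | h
    · exact Or.inl (Fin.ext (Nat.eq_of_beq_eq_true h))
    · exact Or.inr (Or.inl fun e => by simp [e] at h)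
    · exact Or.inr (Or.inr fun e => by simp [e] at h)
  by_contra hne
  obtain ⟨z, hz⟩ := (Set.ne_univ_iff_exists_notMem B).1 hne
  have hdvd : B.ncard ∣ 4060 := by
    have := hB.ncard_dvd_card ⟨0, h0⟩
    rwa [Nat.card_fin] at this
  have hmore : ∃ x ∈ B, x ≠ 0 := by
    obtain ⟨n, hn, hn1⟩ := (Subgroup.ne_bot_iff_exists_ne_one.1 hN |> fun ⟨⟨n, hn⟩, h⟩ =>
      (⟨n, hn, fun e => h (Subtype.ext e)⟩ : ∃ n ∈ N, n ≠ 1))
    by_contra h
    push Not at h
    apply hn1
    refine Subtype.ext (Equiv.ext fun y => ?_)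
    obtain ⟨g, hgy⟩ := MulAction.exists_smul_eq ruPerm (0 : Fin 4060) y
    have hm : (g⁻¹ * n * g) • (0 : Fin 4060) = 0 :=
      h _ ⟨⟨_, by simpa using Subgroup.Normal.conj_mem inferInstance n hn g⁻¹⟩, rfl⟩
    rw [mul_smul, mul_smul, hgy, inv_smul_eq_iff, hgy] at hm
    exact hm
  obtain ⟨x, hxB, hx0⟩ := hmore
  have key : ∀ (L : Level) (m : ℕ), countFrom (fun t => !(Nat.beq (Ctx.rank L t) 0)) 4060 0 = m →
      Ctx.rank L 0 = 0 → {t : Fin 4060 | Ctx.rank L t ≠ 0}.ncard = m ∧
        (0 : Fin 4060) ∉ {t : Fin 4060 | Ctx.rank L t ≠ 0} := fun L m hm h =>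
    ⟨by rw [ncard_of_countFrom (fun t => !(Nat.beq (Ctx.rank L t) 0)) _ fun t => by
      simp [Bool.eq_false_iff], hm], fun e => e h⟩
  obtain ⟨hn1, h01⟩ := key tLev0 1755 (by apply Nat.eq_of_beq_eq_true; decide +kernel)
    (by decide +kernel)
  obtain ⟨hn2, h02⟩ := key otherLev 2304 (by apply Nat.eq_of_beq_eq_true; decide +kernel)
    (by decide +kernel)
  rcases (hcls x).resolve_left hx0 with hx | hx
  · have hsub : insert (0 : Fin 4060) {t : Fin 4060 | Ctx.rank tLev0 t ≠ 0} = B := by
      refine Set.Subset.antisymm (Set.insert_subset h0 fun t ht => horb1 x t hx ht hxB) fun t ht => ?_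
      rcases hcls t with rfl | h | h
      · exact Set.mem_insert _ _
      · exact Or.inr h
      · exfalso
        apply hz
        rcases hcls z with rfl | hz' | hz'
        · exact h0
        · exact horb1 x z hx hz' hxB
        · exact horb2 t z h hz' ht
    rw [← hsub, Set.ncard_insert_of_notMem h01, hn1] at hdvd
    norm_num at hdvd
  · have hsub : insert (0 : Fin 4060) {t : Fin 4060 | Ctx.rank otherLev t ≠ 0} = B := by
      refine Set.Subset.antisymm (Set.insert_subset h0 fun t ht => horb2 x t hx ht hxB) fun t ht => ?_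
      rcases hcls t with rfl | h | h
      · exact Set.mem_insert _ _
      · exfalso
        apply hz
        rcases hcls z with rfl | hz' | hz'
        · exact h0
        · exact horb1 t z h hz' ht
        · exact horb2 x z hx hz' hxB
      · exact Or.inr h
    rw [← hsub, Set.ncard_insert_of_notMem h02, hn2] at hdvd
    norm_num at hdvd

theorem four_thousand_sixty_dvd (N : Subgroup ruPerm) [N.Normal] (hN : N ≠ ⊥) :
    Nat.card N = 4060 * Nat.card (MulAction.stabilizer N (0 : Fin 4060)) := by
  have h := Subgroup.card_eq_card_quotient_mul_card_subgroup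
    (MulAction.stabilizer N (0 : Fin 4060))
  rwa [← Nat.card_congr (MulAction.orbitEquivQuotientStabilizer N (0 : Fin 4060)),
    normal_transitive hcard N hN, Nat.card_coe_set_eq, Set.ncard_univ, Nat.card_fin] at h

/-- The permutation group is simple. -/
theorem isSimpleGroup_ruPerm : IsSimpleGroup ruPerm := by
  have hne : Nontrivial ruPerm := by
    rw [← Finite.one_lt_card_iff_nontrivial, hcard]; norm_num
  refine IsSimpleGroup.mk fun N hNn => ?_
  refine or_iff_not_imp_left.2 fun hN => ?_
  obtain ⟨hTs, hTc⟩ := isTits_titsPerm hcard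
  let i : titsPerm →* ruPerm := Subgroup.inclusion titsPerm_le
  rcases hTs.eq_bot_or_eq_top_of_normal (N.comap i) inferInstance with h | h
  · exfalso
    set N₀ := MulAction.stabilizer N (0 : Fin 4060) with hN₀
    let f : N₀ →* MulAction.stabilizer ruPerm (0 : Fin 4060) :=
      { toFun := fun n => ⟨((n : N) : ruPerm), n.2⟩
        map_one' := rfl
        map_mul' := fun _ _ => rfl }
    let j : titsPerm →* MulAction.stabilizer ruPerm (0 : Fin 4060) :=
      { toFun := fun t => ⟨⟨(t : Perm (Fin 4060)), titsPerm_le t.2⟩, titsPerm_zero t t.2⟩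
        map_one' := rfl
        map_mul' := fun _ _ => rfl }
    have hsmall : Nat.card N₀ * 17971200 ≤ 35942400 := by
      rw [← hTc, ← card_stab hcard, ← Nat.card_prod]
      refine Nat.card_le_card_of_injective (fun p : N₀ × titsPerm => f p.1 * j p.2) ?_
      rintro ⟨a, t⟩ ⟨b, u⟩ e
      change f a * j t = f b * j u at e
      have e1 : f (b⁻¹ * a) = j (u * t⁻¹) := by
        rw [map_mul, map_mul, map_inv, map_inv, eq_mul_inv_iff_mul_eq, mul_assoc, e,
          inv_mul_cancel_left]
      have hu : u * t⁻¹ ∈ N.comap i := by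
        have := congrArg Subtype.val e1
        change _ = i (u * t⁻¹) at this
        rw [Subgroup.mem_comap, ← this]
        exact ((b⁻¹ * a : N₀) : N).2
      rw [h, Subgroup.mem_bot, mul_inv_eq_one] at hu
      subst hu
      have e2 : f a = f b := mul_right_cancel e
      have e3 : ((a : N) : ruPerm) = ((b : N) : ruPerm) := congrArg
        (fun x : MulAction.stabilizer ruPerm (0 : Fin 4060) => (x : ruPerm)) e2
      exact Prod.ext (Subtype.ext (Subtype.ext e3)) rfl
    have hc2 : Nat.card N₀ ≤ 2 := by omega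
    have hc := four_thousand_sixty_dvd hcard N hN
    rw [← hN₀] at hc
    have hc0 : 0 < Nat.card N₀ := Nat.card_pos
    have : Fact (Nat.Prime 29) := ⟨by norm_num⟩
    have hfac : (Nat.card N).factorization 29 = 1 := by
      rw [hc, show (4060 : ℕ) * Nat.card N₀ = 29 ^ 1 * (140 * Nat.card N₀) by ring,
        Nat.factorization_mul (by norm_num) (by positivity), Finsupp.add_apply,
        Nat.Prime.factorization_pow (Fact.out : Nat.Prime 29),
        Nat.factorization_eq_zero_of_not_dvd (by omega : ¬ 29 ∣ 140 * Nat.card N₀)]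
      simp
    obtain ⟨P⟩ := (inferInstance : Nonempty (Sylow 29 N))
    have hP : Nat.card (P : Subgroup N) = 29 := by
      rw [Sylow.card_eq_multiplicity, hfac, pow_one]
    have hidx := Subgroup.card_mul_index (P : Subgroup N)
    rw [hP, hc] at hidx
    have hone : Nat.card (Sylow 29 N) = 1 := by
      have hmod := card_sylow_modEq_one 29 N
      have hdvd : Nat.card (Sylow 29 N) ∣ (P : Subgroup N).index := P.card_dvd_index
      rw [show (P : Subgroup N).index = 140 * Nat.card N₀ by omega] at hdvd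
      have : Nat.card (Sylow 29 N) ∣ 280 := by
        refine hdvd.trans ?_
        rcases (show Nat.card N₀ = 1 ∨ Nat.card N₀ = 2 by omega) with e | e <;> rw [e] <;> norm_num
      have key : ∀ d : Fin 281, (d : ℕ) ∣ 280 → (d : ℕ) % 29 = 1 → (d : ℕ) = 1 := by decide +kernel
      exact key ⟨_, Nat.lt_succ_of_le (Nat.le_of_dvd (by norm_num) this)⟩ this hmod
    have : Subsingleton (Sylow 29 N) := (Nat.card_eq_one_iff_unique.1 hone).1
    have hchar : (P : Subgroup N).Characteristic := P.characteristic_of_subsingleton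
    set M := (P : Subgroup N).map N.subtype with hM
    have hMn : M.Normal := inferInstance
    have hMc : Nat.card M = 29 := by
      rw [hM]
      exact (Nat.card_congr ((P : Subgroup N).equivMapOfInjective _
        N.subtype_injective).toEquiv).symm.trans hP
    have hMne : M ≠ ⊥ := fun e => by
      rw [e, Subgroup.card_bot] at hMc
      norm_num at hMc
    have := four_thousand_sixty_dvd hcard M hMne
    rw [hMc] at this
    have : 0 < Nat.card (MulAction.stabilizer M (0 : Fin 4060)) := Nat.card_pos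
    omega
  · have hTN : ∀ t (ht : t ∈ titsPerm), (⟨t, titsPerm_le ht⟩ : ruPerm) ∈ N := fun t ht =>
      (h ▸ Subgroup.mem_top (⟨t, ht⟩ : titsPerm) : (⟨t, ht⟩ : titsPerm) ∈ N.comap i)
    have hge : 17971200 ≤ Nat.card (MulAction.stabilizer N (0 : Fin 4060)) := by
      rw [← hTc]
      refine Nat.card_le_card_of_injective
        (fun t : titsPerm => (⟨⟨⟨t, titsPerm_le t.2⟩, hTN t t.2⟩, titsPerm_zero t t.2⟩ :
          MulAction.stabilizer N (0 : Fin 4060))) fun a b e => ?_
      exact Subtype.ext (congrArg (fun x : MulAction.stabilizer N (0 : Fin 4060) =>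
        (((x : N) : ruPerm) : Perm (Fin 4060))) e)
    have hc := four_thousand_sixty_dvd hcard N hN
    have hidx := Subgroup.card_mul_index N
    rw [hcard] at hidx
    have hidx2 : N.index ≤ 2 := by
      have h1 : 4060 * 17971200 ≤ Nat.card N := hc ▸ Nat.mul_le_mul_left 4060 hge
      have h2 := Nat.mul_le_mul_right N.index h1
      rw [hidx] at h2
      omega
    rw [← Subgroup.index_eq_one]
    by_contra h1
    have h2 : N.index = 2 := by
      have : N.index ≠ 0 := Subgroup.index_ne_zero_of_finite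
      omega
    have hodd : ∀ (g : ruPerm) (k : ℕ), g ^ (2 * k + 1) = 1 → g ∈ N := fun g k hg => by
      have hsq : (g ^ 2) ^ k ∈ N := N.pow_mem (Subgroup.sq_mem_of_index_two h2 g) k
      rw [← pow_mul, ] at hsq
      rw [pow_succ] at hg
      rw [show g = (g ^ (2 * k))⁻¹ from eq_inv_of_mul_eq_one_right hg]
      exact N.inv_mem hsq
    have m0 : g0 ∈ ruPerm := Subgroup.subset_closure (Set.mem_insert _ _)
    have m1 : g1 ∈ ruPerm := Subgroup.subset_closure (Set.mem_insert_of_mem _ rfl)
    have m14 : g14 ∈ ruPerm := mul_mem m1 (mul_mem m0 (mul_mem m0 (mul_mem m0 m0)))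
    have n0 := hodd ⟨g0, m0⟩ 3 (Subtype.ext g0_pow_seven)
    have n14 := hodd ⟨g14, m14⟩ 6 (Subtype.ext g14_pow)
    have n1 : (⟨g1, m1⟩ : ruPerm) ∈ N := by
      have e : (⟨g14, m14⟩ : ruPerm) =
          ⟨g1, m1⟩ * (⟨g0, m0⟩ * (⟨g0, m0⟩ * (⟨g0, m0⟩ * ⟨g0, m0⟩))) := rfl
      rw [e] at n14
      exact (Subgroup.mul_mem_cancel_right N (mul_mem n0 (mul_mem n0 (mul_mem n0 n0)))).1 n14
    apply h1
    rw [Subgroup.index_eq_one, eq_top_iff]
    intro g _
    have hle : ruPerm ≤ N.map ruPerm.subtype := by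
      refine (Subgroup.closure_le _).2 ?_
      rintro _ (rfl | rfl)
      exacts [⟨_, n0, rfl⟩, ⟨_, n1, rfl⟩]
    obtain ⟨g', hg', e⟩ := hle g.2
    rwa [← Subtype.ext e]

omit hcard in
/-- The realisation on 4060 points from a faithful model of order 145926144000 hitting the
generators. -/
theorem exists_rudvalis_realization' {G : Type*} [Group G] (φ : G →* Perm (Fin 4060))
    (hφ : Function.Injective φ) (h0 : g0 ∈ φ.range) (h1 : g1 ∈ φ.range)
    (hG : Nat.card G = 145926144000) :
    IsSimpleGroup G ∧ ∃ H : Subgroup (Equiv.Perm (Fin 4060)), Cfsg.IsRu H ∧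
      MulAction.IsPretransitive H (Fin 4060) ∧
      Nat.card (MulAction.stabilizer H (0 : Fin 4060)) = 35942400 ∧
      ∃ T : Subgroup (MulAction.stabilizer H (0 : Fin 4060)), Cfsg.IsTits T := by
  have hcard := card_ruPerm φ hφ h0 h1 hG
  have hsR := isSimpleGroup_ruPerm hcard
  have hs : IsSimpleGroup G :=
    ((MonoidHom.ofInjective hφ).trans
      (MulEquiv.subgroupCongr (range_eq_ruPerm φ hφ h0 h1 hG))).isSimpleGroup
  exact ⟨hs, exists_rudvalis_realization φ hφ h0 h1 hG hs⟩

end

end Cfsg.Agent.H56.RuTits
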