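import Cfsg.Agent.H36.AutEngineBase

/-!
Upper bounds for stabiliser chains inside a group with a known faithful base: the Schreier
condition is only tested on the images of the base points.
-/

set_option autoImplicit false

open Equiv Cfsg.Agent.H16 Cfsg.Agent.H36 Cfsg.Agent.H36.AutEngine

namespace Cfsg.Agent.H56.RuTits

variable (D : Ctx)

/-- The transversal element of `t` applied to a point. -/
noncomputable def redo (L : Level) (fuel : ℕ) : ℕ → ℕ → ℕ :=
  Nat.rec (motive := fun _ => ℕ → ℕ → ℕ) (fun _ y => y)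
    (fun _ ih t y => bif Nat.beq t L.b then y else
      forceNat (L.tree.get 48 t) fun v =>
      forceNat (ih (bitField v 16 16) y) fun y' =>
      D.ap (D.el (getN L.gens (bitField v 0 16))) y') fuel

/-- The images of the remaining base points of a Schreier element pass the test. -/
noncomputable def schreierOk (L : Level) (Ls : List Level) (t : ℕ) : Bool :=
  forceNat t fun t => forceNat (Ctx.rank L t) fun r =>
  bif Nat.beq r 0 then true else
    allFrom (fun j => forceNat (D.el (getN L.gens j)) fun S =>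
      forceNat (D.ap S t) fun t' => forceNat (Ctx.rank L t') fun r' =>
        !(Nat.beq r' 0) &&
          D.sift Ls (Ls.map fun M => D.undo L r' t' (D.ap S (redo D L r t M.b)))) L.gens.length 0

/-- Every generator of the next level is one of this level. -/
noncomputable def subGensOk (L : Level) (Ls : List Level) : Bool :=
  match Ls with
  | [] => true
  | M :: _ => M.gens.all fun g => L.gens.any fun h => Nat.beq g h

/-- The Schreier conditions of all levels. -/
def ClosedLevels : List Level → Prop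
  | [] => True
  | L :: Ls => (∀ t, t < D.n → schreierOk D L Ls t = true) ∧ Ctx.rank L L.b ≠ 0 ∧
      subGensOk L Ls = true ∧ ClosedLevels Ls

variable {D}
variable (σ : Fin D.gens.length → Perm (Fin D.n)) (hσ : ∀ c, D.Rep (σ c) (getN D.gens c))
variable (hslp : ∀ k, k < D.ns → D.slpOk k = true)

/-- The elements of a level. -/
def levelSet (L : Level) : Set (Perm (Fin D.n)) :=
  {g | g ∈ Subgroup.closure (Set.range σ) ∧ ∃ j < L.gens.length, D.Rep g (D.el (getN L.gens j))}

/-- The group of a level. -/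
def levelGroup : List Level → Subgroup (Perm (Fin D.n))
  | [] => ⊥
  | L :: _ => Subgroup.closure (levelSet σ L)

/-- A transversal element of a level. -/
def IsTrans (L : Level) (t : Fin D.n) (u : Perm (Fin D.n)) : Prop :=
  u ∈ Subgroup.closure (levelSet σ L) ∧ (∀ b : Fin D.n, (b : ℕ) = L.b → u b = t) ∧
    (∀ y : Fin D.n, ((u y : Fin D.n) : ℕ) = redo D L (Ctx.rank L t) t y) ∧
    ∀ y : Fin D.n, ((u⁻¹ y : Fin D.n) : ℕ) = D.undo L (Ctx.rank L t) t y

include hσ hslp in
theorem exists_trans {prev : List ℕ} {L : Level} (h : D.levelOk prev L = true) :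
    ∀ r, ∀ t : Fin D.n, Ctx.rank L t = r → r ≠ 0 →
      ∃ u, IsTrans σ L t u ∧ ∀ b : Fin D.n, (b : ℕ) ∈ prev → u b = b := by
  simp only [Ctx.levelOk, Bool.and_eq_true] at h
  intro r
  induction r using Nat.strong_induction_on with
  | h r ih =>
    intro t hr h0
    have ht := allFrom_spec h.2 t (Nat.zero_le _) (by omega)
    simp only [Ctx.treeOk, forceNat_eq, hr, show Nat.beq r 0 = false from by
      simpa [Bool.eq_false_iff] using h0, cond_false] at ht
    obtain ⟨r', rfl⟩ := Nat.exists_eq_succ_of_ne_zero h0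
    by_cases htb : (t : ℕ) = L.b
    · refine ⟨1, ⟨one_mem _, fun b hb => Fin.ext (by simp [hb, htb]), fun y => ?_, fun y => ?_⟩,
        fun b _ => rfl⟩
      · rw [hr]
        show _ = (bif Nat.beq (t : ℕ) L.b then (y : ℕ) else _)
        rw [show Nat.beq (t : ℕ) L.b = true by simp [htb], cond_true]
        rfl
      · rw [hr]
        show _ = (bif Nat.beq (t : ℕ) L.b then (y : ℕ) else _)
        rw [show Nat.beq (t : ℕ) L.b = true by simp [htb], cond_true]
        simp
    · have hne : Nat.beq (t : ℕ) L.b = false := by simpa [Bool.eq_false_iff] using htb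
      rw [hne, cond_false] at ht
      simp only [Bool.and_eq_true, Nat.blt_eq] at ht
      obtain ⟨⟨⟨⟨hg, hp⟩, hsucc⟩, hpos⟩, hx⟩ := ht
      have hsucc' : Ctx.rank L _ + 1 = r' + 1 := Nat.eq_of_beq_eq_true hsucc
      obtain ⟨g, hgm, hgr, hgi, hgf⟩ := Ctx.level_el σ hσ hslp h.1 hg
      set p : Fin D.n := ⟨_, hp⟩
      have hpr : Ctx.rank L (p : ℕ) = r' := Nat.succ_injective hsucc'
      have hgp : g p = t := Fin.ext ((hgr p).trans (Nat.eq_of_beq_eq_true hx))
      obtain ⟨u, ⟨huK, hub, huf, hui⟩, hufix⟩ := ih r' (Nat.lt_succ_self r') p hpr (by omega)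
      rw [hpr] at huf hui
      refine ⟨g * u, ⟨mul_mem (Subgroup.subset_closure ⟨hgm, _, hg, hgr⟩) huK,
        fun b hb => by rw [Perm.mul_apply, hub b hb, hgp], fun y => ?_, fun y => ?_⟩,
        fun b hb => by rw [Perm.mul_apply, hufix b hb, hgf b hb]⟩
      · rw [hr]
        show _ = (bif Nat.beq (t : ℕ) L.b then (y : ℕ) else forceNat _ _)
        rw [hne, cond_false]
        simp only [forceNat_eq]
        rw [Perm.mul_apply, hgr, huf]
        simp only [redo, forceNat_eq]
        rfl
      · rw [hr]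
        show _ = (bif Nat.beq (t : ℕ) L.b then (y : ℕ) else forceNat _ _)
        rw [hne, cond_false]
        simp only [forceNat_eq]
        rw [mul_inv_rev, Perm.mul_apply, hui, hgi]
        simp only [Ctx.undo, forceNat_eq]
        rfl

/-- The transversal element, by choice. -/
noncomputable def trv (L : Level) (t : Fin D.n) : Perm (Fin D.n) :=
  open Classical in if h : ∃ u, IsTrans σ L t u then h.choose else 1

/-- The set of all products of transversal elements. -/
noncomputable def prodSet : List Level → Set (Perm (Fin D.n))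
  | [] => {1}
  | L :: Ls => (fun x : Fin D.n × Perm (Fin D.n) => trv σ L x.1 * x.2) ''
      ({t : Fin D.n | Ctx.rank L t ≠ 0} ×ˢ prodSet Ls)

include hσ hslp in
theorem trv_spec {prev : List ℕ} {L : Level} (h : D.levelOk prev L = true) {t : Fin D.n}
    (ht : Ctx.rank L t ≠ 0) :
    IsTrans σ L t (trv σ L t) ∧ ∀ b : Fin D.n, (b : ℕ) ∈ prev → trv σ L t b = b := by
  obtain ⟨u, hu, hfix⟩ := exists_trans σ hσ hslp h _ t rfl ht
  have hex : ∃ u, IsTrans σ L t u := ⟨u, hu⟩
  have e : trv σ L t = hex.choose := by rw [trv, dif_pos hex]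
  have hs := hex.choose_spec
  have e' : hex.choose = u := Equiv.ext fun y => Fin.ext ((hs.2.2.1 y).trans (hu.2.2.1 y).symm)
  rw [e, e']
  exact ⟨hu, hfix⟩

theorem ncard_prodSet_le : ∀ Ls : List Level, (prodSet σ Ls).ncard ≤ D.prodCnt Ls
  | [] => by simp [prodSet, Ctx.prodCnt_nil]
  | L :: Ls => by
    classical
    rw [prodSet, Ctx.prodCnt_cons]
    refine (Set.ncard_image_le (Set.toFinite _)).trans ?_
    rw [Set.ncard_prod]
    refine Nat.mul_le_mul (le_of_eq ?_) (ncard_prodSet_le Ls)
    rw [Ctx.cnt, countFrom_spec, Set.ncard_eq_toFinset_card']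
    refine Finset.card_bij (fun t _ => (t : ℕ)) (fun t ht => ?_) (fun a _ b _ e => Fin.ext e) ?_
    · rw [Set.mem_toFinset] at ht
      exact Finset.mem_filter.2 ⟨Finset.mem_Ico.2 ⟨Nat.zero_le _, by omega⟩,
        by simpa [Bool.eq_false_iff] using ht⟩
    · intro t ht
      obtain ⟨ht1, ht2⟩ := Finset.mem_filter.1 ht
      exact ⟨⟨t, by simpa using ht1⟩, by simpa [Bool.eq_false_iff] using ht2, rfl⟩

/-- The base is faithful on an ambient group. -/
def Faithful (A : Subgroup (Perm (Fin D.n))) (B : List ℕ) : Prop :=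
  ∀ c ∈ A, (∀ b : Fin D.n, (b : ℕ) ∈ B → c b = b) → c = 1

include hσ hslp

theorem mem_prodSet_of_sift (A : Subgroup (Perm (Fin D.n)))
    (hA : Subgroup.closure (Set.range σ) ≤ A) : ∀ (Ls : List Level) (prev : List ℕ),
    D.levelsOk Ls prev = true → Faithful A ((Ls.map Level.b).reverse ++ prev) →
    ∀ c ∈ A, (∀ b : Fin D.n, (b : ℕ) ∈ prev → c b = b) → ∀ f : ℕ → ℕ,
      (∀ x : Fin D.n, f x = ((c x : Fin D.n) : ℕ)) →
      D.sift Ls (Ls.map fun L => f L.b) = true → c ∈ prodSet σ Ls := by
  intro Ls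
  induction Ls with
  | nil =>
    intro prev _ hF c hc hfix _ _ _
    exact hF c hc (by simpa using hfix)
  | cons L Ls ih =>
    intro prev hok hF c hc hfix f hf hs
    change (D.levelOk prev L && D.levelsOk Ls (L.b :: prev)) = true at hok
    rw [Bool.and_eq_true] at hok
    have hb : L.b < D.n := by
      have h := hok.1
      simp only [Ctx.levelOk, Ctx.levelGensOk, Bool.and_eq_true, Nat.blt_eq] at h
      exact h.1.1.2
    set b : Fin D.n := ⟨L.b, hb⟩
    change (forceNat (Ctx.rank L (f L.b)) fun r => bif Nat.beq r 0 then false else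
      D.sift Ls ((Ls.map fun L => f L.b).map fun y => D.undo L r (f L.b) y)) = true at hs
    rw [forceNat_eq, show f L.b = ((c b : Fin D.n) : ℕ) from hf b] at hs
    rcases Nat.eq_zero_or_pos (Ctx.rank L ((c b : Fin D.n) : ℕ)) with hr | hr
    · simp [hr] at hs
    rw [show Nat.beq (Ctx.rank L ((c b : Fin D.n) : ℕ)) 0 = false by
      simpa [Bool.eq_false_iff] using hr.ne', cond_false, List.map_map] at hs
    obtain ⟨⟨huK, hub, huf, hui⟩, hufix⟩ := trv_spec σ hσ hslp hok.1 hr.ne'
    set u := trv σ L (c b)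
    have huA : u ∈ A := hA ((Subgroup.closure_le _).2 (fun g hg => hg.1) huK)
    refine ⟨(c b, u⁻¹ * c), ⟨hr.ne', ?_⟩, by simp [u]⟩
    refine ih (L.b :: prev) hok.2 (by simpa using hF) (u⁻¹ * c) (mul_mem (inv_mem huA) hc) ?_
      (fun x => D.undo L (Ctx.rank L ((c b : Fin D.n) : ℕ)) ((c b : Fin D.n) : ℕ) (f x))
      (fun x => ?_) hs
    · intro x hx
      rw [Perm.mul_apply, Perm.inv_eq_iff_eq]
      rcases List.mem_cons.1 hx with e | e
      · obtain rfl : x = b := Fin.ext e
        exact (hub b rfl).symm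
      · rw [hufix x e, hfix x e]
    · rw [hf, ← hui, Perm.mul_apply]

open scoped Pointwise in
/-- The group of every level is the set of products of transversal elements. -/
theorem levelGroup_eq (A : Subgroup (Perm (Fin D.n)))
    (hA : Subgroup.closure (Set.range σ) ≤ A) : ∀ (Ls : List Level) (prev : List ℕ),
    D.levelsOk Ls prev = true → ClosedLevels D Ls →
    Faithful A ((Ls.map Level.b).reverse ++ prev) →
    (levelGroup σ Ls : Set (Perm (Fin D.n))) = prodSet σ Ls := by
  intro Ls
  induction Ls with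
  | nil => intro _ _ _ _; simp [levelGroup, prodSet]
  | cons L Ls ih =>
    intro prev hok hcl hF
    obtain ⟨hsch, hroot, hsub, hcl'⟩ := hcl
    change (D.levelOk prev L && D.levelsOk Ls (L.b :: prev)) = true at hok
    rw [Bool.and_eq_true] at hok
    have hF' : Faithful A ((Ls.map Level.b).reverse ++ (L.b :: prev)) := by simpa using hF
    have IH := ih (L.b :: prev) hok.2 hcl' hF'
    have hlow : levelGroup σ Ls ≤ Subgroup.closure (levelSet σ L) := by
      rcases Ls with _ | ⟨M, Ms⟩
      · exact bot_le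
      refine Subgroup.closure_mono fun g hg => ⟨hg.1, ?_⟩
      obtain ⟨j, hj, hjr⟩ := hg.2
      simp only [subGensOk, List.all_eq_true, List.any_eq_true] at hsub
      obtain ⟨h, hh, hgh⟩ := hsub _ (getN_mem M.gens hj)
      obtain ⟨i, hi, rfl⟩ := List.getElem_of_mem hh
      refine ⟨i, hi, ?_⟩
      rw [show getN L.gens i = L.gens[i] by rw [getN_eq_getD, List.getD_eq_getElem],
        ← Nat.eq_of_beq_eq_true hgh]
      exact hjr
    have hKA : Subgroup.closure (levelSet σ L) ≤ A :=
      ((Subgroup.closure_le _).2 fun g hg => hg.1).trans hA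
    have hfwd : prodSet σ (L :: Ls) ⊆ Subgroup.closure (levelSet σ L) := by
      rintro _ ⟨⟨t, p⟩, ⟨ht, hp⟩, rfl⟩
      exact mul_mem (trv_spec σ hσ hslp hok.1 ht).1.1 (hlow (IH.symm.subset hp))
    have hb : L.b < D.n := by
      have h := hok.1
      simp only [Ctx.levelOk, Ctx.levelGensOk, Bool.and_eq_true, Nat.blt_eq] at h
      exact h.1.1.2
    set b : Fin D.n := ⟨L.b, hb⟩
    have hone : (1 : Perm (Fin D.n)) ∈ prodSet σ (L :: Ls) := by
      obtain ⟨⟨_, -, huf, -⟩, -⟩ := trv_spec σ hσ hslp hok.1 (t := b) hroot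
      refine ⟨(b, 1), ⟨hroot, IH.subset (one_mem _)⟩, ?_⟩
      show trv σ L b * 1 = 1
      rw [mul_one]
      refine Equiv.ext fun y => Fin.ext ?_
      rw [huf]
      obtain ⟨r', hr'⟩ := Nat.exists_eq_succ_of_ne_zero hroot
      show redo D L (Ctx.rank L L.b) L.b y = _
      rw [hr']
      show (bif Nat.beq L.b L.b then (y : ℕ) else _) = _
      rw [show Nat.beq L.b L.b = true by simp, cond_true]
      rfl
    refine Set.Subset.antisymm ?_ hfwd
    suffices h : Subgroup.closure (levelSet σ L) ≤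
        MulAction.stabilizer (Perm (Fin D.n)) (prodSet σ (L :: Ls)) by
      intro g hg
      have := MulAction.mem_stabilizer_iff.1 (h hg)
      rw [← this]
      exact ⟨1, hone, mul_one g⟩
    refine (Subgroup.closure_le _).2 fun s hs => ?_
    obtain ⟨hsc, j, hj, hsr⟩ := hs
    refine MulAction.mem_stabilizer_iff.2 (Set.eq_of_subset_of_ncard_le ?_ (by rw [Set.ncard_smul_set]))
    rintro _ ⟨_, ⟨⟨t, p⟩, ⟨ht, hp⟩, rfl⟩, rfl⟩
    change Ctx.rank L (t : ℕ) ≠ 0 at ht
    change p ∈ prodSet σ Ls at hp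
    obtain ⟨⟨huK, hub, huf, hui⟩, hufix⟩ := trv_spec σ hσ hslp hok.1 ht
    have hchk := hsch t t.2
    simp only [schreierOk, forceNat_eq] at hchk
    rw [show Nat.beq (Ctx.rank L (t : ℕ)) 0 = false by simpa [Bool.eq_false_iff] using ht,
      cond_false] at hchk
    have hj' := allFrom_spec hchk j (Nat.zero_le _) (by omega)
    rw [← hsr t] at hj'
    simp only [Bool.and_eq_true, Bool.not_eq_true'] at hj'
    obtain ⟨hr, hsift⟩ := hj'
    have hr0 : Ctx.rank L ((s t : Fin D.n) : ℕ) ≠ 0 := fun e => by simp [e] at hr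
    obtain ⟨⟨hu'K, hu'b, -, hu'i⟩, hu'fix⟩ := trv_spec σ hσ hslp hok.1 hr0
    have hlev := hok.1
    simp only [Ctx.levelOk, Bool.and_eq_true] at hlev
    obtain ⟨s', -, hsr', -, hsfix⟩ := Ctx.level_el σ hσ hslp hlev.1 hj
    have es : s' = s := hsr'.unique hsr
    subst es
    set c := (trv σ L (s' t))⁻¹ * (s' * trv σ L t) with hc
    have hcA : c ∈ A := mul_mem (inv_mem (hKA hu'K)) (mul_mem (hA hsc) (hKA huK))
    have hcK : c ∈ prodSet σ Ls := by
      refine mem_prodSet_of_sift σ hσ hslp A hA Ls (L.b :: prev) hok.2 hF' c hcA ?_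
        (fun x => D.undo L (Ctx.rank L ((s' t : Fin D.n) : ℕ)) ((s' t : Fin D.n) : ℕ)
          (D.ap (D.el (getN L.gens j)) (redo D L (Ctx.rank L (t : ℕ)) t x)))
        (fun x => ?_) hsift
      · intro x hx
        rw [hc, Perm.mul_apply, Perm.inv_eq_iff_eq, Perm.mul_apply]
        rcases List.mem_cons.1 hx with e | e
        · obtain rfl : x = b := Fin.ext e
          rw [hub b rfl, hu'b b rfl]
        · rw [hufix x e, hsfix x e, hu'fix x e]
      · rw [hc, Perm.mul_apply, hu'i, Perm.mul_apply, hsr (trv σ L t x), huf]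
    refine ⟨(s' t, c * p), ⟨hr0, ?_⟩, ?_⟩
    · rw [← IH] at hcK hp ⊢
      exact mul_mem hcK hp
    · simp [hc, mul_assoc]

/-- The order of the group of a level is at most the product of the orbit lengths. -/
theorem card_levelGroup_le (A : Subgroup (Perm (Fin D.n)))
    (hA : Subgroup.closure (Set.range σ) ≤ A) {Ls : List Level} {prev : List ℕ}
    (hok : D.levelsOk Ls prev = true) (hcl : ClosedLevels D Ls)
    (hF : Faithful A ((Ls.map Level.b).reverse ++ prev)) :
    Nat.card (levelGroup σ Ls) ≤ D.prodCnt Ls := by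
  rw [← SetLike.coe_sort_coe, Nat.card_coe_set_eq, levelGroup_eq σ hσ hslp A hA Ls prev hok hcl hF]
  exact ncard_prodSet_le σ Ls

end Cfsg.Agent.H56.RuTits
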