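import Cfsg.Agent.H56.RuTits.Data

/-! Kernel checks of the stabiliser chains. -/

set_option autoImplicit false
set_option maxRecDepth 100000

open Cfsg.Agent.H16 Cfsg.Agent.H36 Cfsg.Agent.H36.AutEngine

namespace Cfsg.Agent.H56.RuTits

theorem levelsG_ok : ctxG.levelsOk levelsG [] = true := by decide +kernel

theorem prodG : ctxG.prodCnt levelsG = 145926144000 := by
  apply Nat.eq_of_beq_eq_true
  decide +kernel

theorem levelsT_ok : ctxT.levelsOk levelsT [] = true := by decide +kernel

theorem prodT : ctxT.prodCnt levelsT = 17971200 := by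
  apply Nat.eq_of_beq_eq_true
  decide +kernel

theorem subs_ok : subs.all (fun L => ctxT.levelOk [tLev0.b] L) = true := by decide +kernel

theorem roots_ok : (levelsT.all fun L => !(Nat.beq (Ctx.rank tLev0 L.b) 0)) = true := by decide +kernel

theorem tailG_ok : natListEq (levelsG.map Level.b) (0 :: levelsT.map Level.b) = true := by decide +kernel

theorem topGens_ok : allFrom (fun c => tLev0.gens.any fun h => Nat.beq c h) 4 0 = true := by decide +kernel

theorem fixZero_ok : allFrom (fun c => Nat.beq (ctxT.ap (getN ctxT.gens c) 0) 0) 4 0 = true := by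
  decide +kernel

theorem subGens0_ok : subGensOk tLev0 [tLev1, tLev2] = true := by decide +kernel

theorem subGens1_ok : subGensOk tLev1 [tLev2] = true := by decide +kernel

theorem central_ok : allFrom (fun j => forceNat (ctxT.el (getN tLev1.gens j)) fun S =>
    ctxT.allPts fun x => Nat.beq (ctxT.ap (getN ctxT.gens 0) (ctxT.ap S x))
      (ctxT.ap S (ctxT.ap (getN ctxT.gens 0) x))) tLev1.gens.length 0 = true := by decide +kernel

theorem conj_ok : allFrom (fun j => forceNat (getN conjIdx j) fun w => Nat.blt w ctxT.ns &&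
    forceNat (ctxT.el w) fun W => ctxT.allPts fun x =>
      Nat.beq (ctxT.ap (getN ctxT.gens (Nat.succ j)) (ctxT.ap W x))
        (ctxT.ap W (ctxT.ap (getN ctxT.gens 0) x))) 3 0 = true := by decide +kernel

theorem comm_ok : (Nat.blt commIdx.1 ctxT.ns && Nat.blt commIdx.2 ctxT.ns &&
    forceNat (ctxT.el commIdx.1) fun P => forceNat (ctxT.el commIdx.2) fun Q =>
      ctxT.allPts fun x => Nat.beq (ctxT.ap (getN ctxT.gens 0) (ctxT.ap Q (ctxT.ap P x)))
        (ctxT.ap P (ctxT.ap Q x))) = true := by decide +kernel

/-- Membership in the union of the suborbits selected by a mask. -/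
noncomputable def inMask (m x : ℕ) : Bool :=
  allFrom (fun i => !(Nat.testBit m i) || Nat.beq (Ctx.rank (subs.getD i sub0) x) 0) 5 0 == false

theorem mask_ok : allFrom (fun m => forceNat m fun m => !(Nat.testBit m 0) ||
    forceNat (countFrom (inMask m) 4060 0) fun c =>
      Nat.beq c 1 || Nat.beq c 1755 || !(Nat.beq (Nat.mod 1755 c) 0)) 32 0 = true := by decide +kernel

theorem cover_ok : allFrom (fun x => Nat.beq (Ctx.rank tLev0 x) 0 || inMask 31 x) 4060 0 = true := by
  decide +kernel

theorem sub0_root : sub0.b = tLev0.b := rfl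

end Cfsg.Agent.H56.RuTits
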