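import Cfsg.Agent.H56.RuTits.Data

/-! Kernel checks of the Schreier conditions of the subgroup. -/

set_option autoImplicit false
set_option maxRecDepth 100000

open Cfsg.Agent.H16 Cfsg.Agent.H36 Cfsg.Agent.H36.AutEngine

namespace Cfsg.Agent.H56.RuTits

theorem schreier0_part0 : allFrom (schreierOk ctxT tLev0 [tLev1, tLev2]) 406 0 = true := by
  decide +kernel

theorem schreier0_part1 : allFrom (schreierOk ctxT tLev0 [tLev1, tLev2]) 406 406 = true := by
  decide +kernel

theorem schreier0_part2 : allFrom (schreierOk ctxT tLev0 [tLev1, tLev2]) 406 812 = true := by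
  decide +kernel

theorem schreier0_part3 : allFrom (schreierOk ctxT tLev0 [tLev1, tLev2]) 406 1218 = true := by
  decide +kernel

theorem schreier0_part4 : allFrom (schreierOk ctxT tLev0 [tLev1, tLev2]) 406 1624 = true := by
  decide +kernel

theorem schreier0_part5 : allFrom (schreierOk ctxT tLev0 [tLev1, tLev2]) 406 2030 = true := by
  decide +kernel

theorem schreier0_part6 : allFrom (schreierOk ctxT tLev0 [tLev1, tLev2]) 406 2436 = true := by
  decide +kernel

theorem schreier0_part7 : allFrom (schreierOk ctxT tLev0 [tLev1, tLev2]) 406 2842 = true := by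
  decide +kernel

theorem schreier0_part8 : allFrom (schreierOk ctxT tLev0 [tLev1, tLev2]) 406 3248 = true := by
  decide +kernel

theorem schreier0_part9 : allFrom (schreierOk ctxT tLev0 [tLev1, tLev2]) 406 3654 = true := by
  decide +kernel

theorem schreier0 (t : ℕ) (h : t < 4060) : schreierOk ctxT tLev0 [tLev1, tLev2] t = true := by
  by_cases c0 : t < 406
  · exact allFrom_spec schreier0_part0 t (by omega) (by omega)
  by_cases c1 : t < 812
  · exact allFrom_spec schreier0_part1 t (by omega) (by omega)
  by_cases c2 : t < 1218
  · exact allFrom_spec schreier0_part2 t (by omega) (by omega)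
  by_cases c3 : t < 1624
  · exact allFrom_spec schreier0_part3 t (by omega) (by omega)
  by_cases c4 : t < 2030
  · exact allFrom_spec schreier0_part4 t (by omega) (by omega)
  by_cases c5 : t < 2436
  · exact allFrom_spec schreier0_part5 t (by omega) (by omega)
  by_cases c6 : t < 2842
  · exact allFrom_spec schreier0_part6 t (by omega) (by omega)
  by_cases c7 : t < 3248
  · exact allFrom_spec schreier0_part7 t (by omega) (by omega)
  by_cases c8 : t < 3654
  · exact allFrom_spec schreier0_part8 t (by omega) (by omega)
  exact allFrom_spec schreier0_part9 t (by omega) (by omega)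

theorem schreier1_part0 : allFrom (schreierOk ctxT tLev1 [tLev2]) 1015 0 = true := by
  decide +kernel

theorem schreier1_part1 : allFrom (schreierOk ctxT tLev1 [tLev2]) 1015 1015 = true := by
  decide +kernel

theorem schreier1_part2 : allFrom (schreierOk ctxT tLev1 [tLev2]) 1015 2030 = true := by
  decide +kernel

theorem schreier1_part3 : allFrom (schreierOk ctxT tLev1 [tLev2]) 1015 3045 = true := by
  decide +kernel

theorem schreier1 (t : ℕ) (h : t < 4060) : schreierOk ctxT tLev1 [tLev2] t = true := by
  by_cases c0 : t < 1015
  · exact allFrom_spec schreier1_part0 t (by omega) (by omega)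
  by_cases c1 : t < 2030
  · exact allFrom_spec schreier1_part1 t (by omega) (by omega)
  by_cases c2 : t < 3045
  · exact allFrom_spec schreier1_part2 t (by omega) (by omega)
  exact allFrom_spec schreier1_part3 t (by omega) (by omega)

theorem schreier2_part0 : allFrom (schreierOk ctxT tLev2 []) 4060 0 = true := by
  decide +kernel

theorem schreier2 (t : ℕ) (h : t < 4060) : schreierOk ctxT tLev2 [] t = true := by
  exact allFrom_spec schreier2_part0 t (by omega) (by omega)

end Cfsg.Agent.H56.RuTits
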