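import Cfsg.Agent.H56.RuTits.Data

/-! Kernel checks of a straight-line program. -/

set_option autoImplicit false
set_option maxRecDepth 100000

open Cfsg.Agent.H16 Cfsg.Agent.H36 Cfsg.Agent.H36.AutEngine

namespace Cfsg.Agent.H56.RuTits

theorem g_part1_0 : allFrom (fun k => ctxG.slpOk k) 12 109 = true := by
  decide +kernel

theorem g_part1_1 : allFrom (fun k => ctxG.slpOk k) 12 121 = true := by
  decide +kernel

theorem g_part1_2 : allFrom (fun k => ctxG.slpOk k) 12 133 = true := by
  decide +kernel

theorem g_part1_3 : allFrom (fun k => ctxG.slpOk k) 12 145 = true := by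
  decide +kernel

theorem g_part1_4 : allFrom (fun k => ctxG.slpOk k) 12 157 = true := by
  decide +kernel

theorem g_part1_5 : allFrom (fun k => ctxG.slpOk k) 12 169 = true := by
  decide +kernel

theorem g_part1_6 : allFrom (fun k => ctxG.slpOk k) 12 181 = true := by
  decide +kernel

theorem g_part1_7 : allFrom (fun k => ctxG.slpOk k) 12 193 = true := by
  decide +kernel

theorem g_part1_8 : allFrom (fun k => ctxG.slpOk k) 12 205 = true := by
  decide +kernel

theorem g_block1 (k : ℕ) (h1 : 109 ≤ k) (h2 : k < 217) : ctxG.slpOk k = true := by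
  by_cases c0 : k < 121
  · exact allFrom_spec g_part1_0 k (by omega) (by omega)
  by_cases c1 : k < 133
  · exact allFrom_spec g_part1_1 k (by omega) (by omega)
  by_cases c2 : k < 145
  · exact allFrom_spec g_part1_2 k (by omega) (by omega)
  by_cases c3 : k < 157
  · exact allFrom_spec g_part1_3 k (by omega) (by omega)
  by_cases c4 : k < 169
  · exact allFrom_spec g_part1_4 k (by omega) (by omega)
  by_cases c5 : k < 181
  · exact allFrom_spec g_part1_5 k (by omega) (by omega)
  by_cases c6 : k < 193
  · exact allFrom_spec g_part1_6 k (by omega) (by omega)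
  by_cases c7 : k < 205
  · exact allFrom_spec g_part1_7 k (by omega) (by omega)
  exact allFrom_spec g_part1_8 k (by omega) (by omega)

end Cfsg.Agent.H56.RuTits
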