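import Cfsg.Agent.H56.RuTits.Data

/-! Kernel checks of a straight-line program. -/

set_option autoImplicit false
set_option maxRecDepth 100000

open Cfsg.Agent.H16 Cfsg.Agent.H36 Cfsg.Agent.H36.AutEngine

namespace Cfsg.Agent.H56.RuTits

theorem t_part1_0 : allFrom (fun k => ctxT.slpOk k) 12 53 = true := by
  decide +kernel

theorem t_part1_1 : allFrom (fun k => ctxT.slpOk k) 12 65 = true := by
  decide +kernel

theorem t_part1_2 : allFrom (fun k => ctxT.slpOk k) 12 77 = true := by
  decide +kernel

theorem t_part1_3 : allFrom (fun k => ctxT.slpOk k) 12 89 = true := by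
  decide +kernel

theorem t_part1_4 : allFrom (fun k => ctxT.slpOk k) 5 101 = true := by
  decide +kernel

theorem t_block1 (k : ℕ) (h1 : 53 ≤ k) (h2 : k < 106) : ctxT.slpOk k = true := by
  by_cases c0 : k < 65
  · exact allFrom_spec t_part1_0 k (by omega) (by omega)
  by_cases c1 : k < 77
  · exact allFrom_spec t_part1_1 k (by omega) (by omega)
  by_cases c2 : k < 89
  · exact allFrom_spec t_part1_2 k (by omega) (by omega)
  by_cases c3 : k < 101
  · exact allFrom_spec t_part1_3 k (by omega) (by omega)
  exact allFrom_spec t_part1_4 k (by omega) (by omega)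

end Cfsg.Agent.H56.RuTits
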