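import Cfsg.Agent.H56.RuTits.Checks
import Cfsg.Agent.H56.RuTits.Schreier
import Cfsg.Agent.H56.RuTits.SlpG0
import Cfsg.Agent.H56.RuTits.SlpG1
import Cfsg.Agent.H56.RuTits.SlpT0
import Cfsg.Agent.H56.RuTits.SlpT1

/-!
A subgroup of order 17971200 in the stabiliser of a point of the Rudvalis permutation group.
-/

set_option autoImplicit false
set_option maxRecDepth 100000

open Equiv Cfsg.Agent.H16 Cfsg.Agent.H36 Cfsg.Agent.H36.AutEngine

namespace Cfsg.Agent.H56.RuTits

noncomputable section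

theorem slpG_ok (k : ℕ) (h : k < ctxG.ns) : ctxG.slpOk k = true := by
  change k < 217 at h
  by_cases c : k < 109
  · exact g_block0 k (Nat.zero_le _) c
  · exact g_block1 k (by omega) h

theorem slpT_ok (k : ℕ) (h : k < ctxT.ns) : ctxT.slpOk k = true := by
  change k < 106 at h
  by_cases c : k < 53
  · exact t_block0 k (Nat.zero_le _) c
  · exact t_block1 k (by omega) h

/-- The generators of the big group and their inverses. -/
def sigG : Fin ctxG.gens.length → Perm (Fin ctxG.n) := ![g0, g1, g0⁻¹, g1⁻¹]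

theorem sigG_rep : ∀ c, ctxG.Rep (sigG c) (getN ctxG.gens c) :=
  Fin.forall_fin_succ.2 ⟨fun x => g0_apply x, Fin.forall_fin_succ.2 ⟨fun x => g1_apply x,
    Fin.forall_fin_succ.2 ⟨fun x => g0_symm_apply x, Fin.forall_fin_succ.2
      ⟨fun x => g1_symm_apply x, fun c => c.elim0⟩⟩⟩⟩

theorem closure_sigG : Subgroup.closure (Set.range sigG) = ruPerm := by
  refine le_antisymm ((Subgroup.closure_le _).2 ?_) ((Subgroup.closure_le _).2 ?_)
  · rintro _ ⟨c, rfl⟩
    have h0 : g0 ∈ ruPerm := Subgroup.subset_closure (Set.mem_insert _ _)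
    have h1 : g1 ∈ ruPerm := Subgroup.subset_closure (Set.mem_insert_of_mem _ rfl)
    fin_cases c
    exacts [h0, h1, inv_mem h0, inv_mem h1]
  · intro g hg
    rcases hg with rfl | rfl
    · exact Subgroup.subset_closure ⟨(0 : Fin 4), rfl⟩
    · exact Subgroup.subset_closure ⟨(1 : Fin 4), rfl⟩

theorem gensT_lt : ∀ c : Fin ctxT.gens.length,
    ∃ k, k < ctxG.ns ∧ getN ctxT.gens c = ctxG.el k :=
  Fin.forall_fin_succ.2 ⟨⟨_, Nat.blt_eq.mp rfl, rfl⟩, Fin.forall_fin_succ.2
    ⟨⟨_, Nat.blt_eq.mp rfl, rfl⟩, Fin.forall_fin_succ.2 ⟨⟨_, Nat.blt_eq.mp rfl, rfl⟩,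
      Fin.forall_fin_succ.2 ⟨⟨_, Nat.blt_eq.mp rfl, rfl⟩, fun c => c.elim0⟩⟩⟩⟩

theorem exists_sigT (c : Fin ctxT.gens.length) :
    ∃ g ∈ ruPerm, ctxT.Rep g (getN ctxT.gens c) := by
  obtain ⟨k, hk, e⟩ := gensT_lt c
  obtain ⟨g, hg, hr⟩ := Ctx.el_mem sigG sigG_rep slpG_ok k hk
  exact ⟨g, closure_sigG.le hg, fun x => by rw [e]; exact hr x⟩

/-- The generators of the subgroup. -/
def sigT (c : Fin ctxT.gens.length) : Perm (Fin ctxT.n) := (exists_sigT c).choose

theorem sigT_rep (c : Fin ctxT.gens.length) : ctxT.Rep (sigT c) (getN ctxT.gens c) :=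
  (exists_sigT c).choose_spec.2

/-- The subgroup. -/
def titsPerm : Subgroup (Perm (Fin 4060)) := Subgroup.closure (Set.range sigT)

theorem titsPerm_le : titsPerm ≤ ruPerm :=
  (Subgroup.closure_le _).2 (by rintro _ ⟨c, rfl⟩; exact (exists_sigT c).choose_spec.1)

theorem titsPerm_zero : ∀ g ∈ titsPerm, g (0 : Fin 4060) = 0 := by
  suffices h : titsPerm ≤ MulAction.stabilizer (Perm (Fin 4060)) (0 : Fin 4060) from fun g hg => h hg
  refine (Subgroup.closure_le _).2 ?_
  rintro _ ⟨c, rfl⟩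
  refine Fin.ext ?_
  show ((sigT c (⟨0, Nat.blt_eq.mp rfl⟩ : Fin ctxT.n) : Fin ctxT.n) : ℕ) = 0
  rw [sigT_rep c]
  exact Nat.eq_of_beq_eq_true (allFrom_spec fixZero_ok c (Nat.zero_le _)
    (by have := c.2; change (c : ℕ) < 4 at this; omega))

theorem levelsT_bases : ∀ b ∈ levelsT.map Level.b, b < 4060 := by
  intro b hb
  simp only [levelsT, List.map_cons, List.map_nil, List.mem_cons, List.not_mem_nil, or_false] at hb
  rcases hb with rfl | rfl | rfl <;> exact Nat.blt_eq.mp rfl

variable (hcard : Nat.card ruPerm = 145926144000)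

include hcard

theorem faithful_titsPerm : Faithful (D := ctxT) titsPerm ((levelsT.map Level.b).reverse ++ []) := by
  intro c hc h
  have hcard' : ctxG.prodCnt levelsG = Nat.card (Subgroup.closure (Set.range sigG)) := by
    rw [prodG, ← hcard]
    exact congrArg (fun H : Subgroup (Perm (Fin 4060)) => Nat.card H) closure_sigG.symm
  refine Ctx.eq_of_base sigG sigG_rep slpG_ok levelsG_ok hcard' (a := c)
    (closure_sigG.ge (titsPerm_le hc)) (one_mem _) fun x hx => ?_
  rw [natListEq_eq tailG_ok] at hx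
  rcases List.mem_cons.1 hx with e | e
  · obtain rfl : x = (0 : Fin 4060) := Fin.ext e
    exact titsPerm_zero c hc
  · exact h x (by simpa using e)

omit hcard in
theorem closed_levelsT : ClosedLevels ctxT levelsT :=
  ⟨schreier0, by decide +kernel, subGens0_ok,
    schreier1, by decide +kernel, subGens1_ok, schreier2, by decide +kernel, rfl, trivial⟩

omit hcard in
theorem levelGroup_top : levelGroup sigT levelsT = titsPerm := by
  refine le_antisymm ((Subgroup.closure_le _).2 fun g hg => hg.1) ((Subgroup.closure_le _).2 ?_)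
  rintro _ ⟨c, rfl⟩
  refine Subgroup.subset_closure ⟨Subgroup.subset_closure ⟨c, rfl⟩, ?_⟩
  have hc : (c : ℕ) < 4 := c.2
  obtain ⟨h, hh, he⟩ := List.any_eq_true.1 (allFrom_spec topGens_ok c (Nat.zero_le _) (by omega))
  obtain ⟨i, hi, rfl⟩ := List.getElem_of_mem hh
  refine ⟨i, hi, fun x => ?_⟩
  rw [show getN tLev0.gens i = tLev0.gens[i] by rw [getN_eq_getD, List.getD_eq_getElem],
    ← Nat.eq_of_beq_eq_true he, sigT_rep c]
  have hs := slpT_ok (c : ℕ) (Nat.lt_of_lt_of_le hc (Nat.ble_eq.mp rfl))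
  simp only [Ctx.slpOk, forceNat_eq] at hs
  rw [show Nat.blt (c : ℕ) ctxT.gens.length = true from Nat.blt_eq.mpr c.2, cond_true] at hs
  exact (Ctx.pts_spec hs x).symm

theorem levelGroup_eq_prodSet :
    ((Subgroup.closure (Set.range sigT) : Subgroup (Perm (Fin ctxT.n))) : Set (Perm (Fin ctxT.n))) =
      prodSet sigT levelsT := by
  have h := levelGroup_eq sigT sigT_rep slpT_ok titsPerm le_rfl levelsT [] levelsT_ok
    closed_levelsT (faithful_titsPerm hcard)
  rw [levelGroup_top] at h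
  exact h

theorem card_titsPerm : Nat.card titsPerm = 17971200 := by
  refine le_antisymm ?_ (prodT.symm.le.trans (Ctx.prodCnt_le sigT sigT_rep slpT_ok levelsT_ok))
  rw [← SetLike.coe_sort_coe, Nat.card_coe_set_eq]
  refine le_trans (le_of_eq ?_) ((ncard_prodSet_le sigT levelsT).trans prodT.le)
  exact congrArg Set.ncard (levelGroup_eq_prodSet hcard)

end

end Cfsg.Agent.H56.RuTits
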