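import Cfsg.Agent.H56.RuTits.Group
import Cfsg.Prelude.Def_Exceptional

/-!
The subgroup is simple (Iwasawa's criterion on its orbit of 1755 points), so the stabiliser of a
point in the Rudvalis permutation group contains a group with the predicate of the Tits group.
-/

set_option autoImplicit false
set_option maxRecDepth 100000

open Equiv Cfsg.Agent.H16 Cfsg.Agent.H36 Cfsg.Agent.H36.AutEngine

namespace Cfsg.Agent.H56.RuTits

noncomputable section

/-- The first base point. -/
def pB : Fin 4060 := ⟨tLev0.b, Nat.blt_eq.mp rfl⟩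

/-- The stabiliser of the first base point. -/
def ptGroup : Subgroup (Perm (Fin 4060)) := levelGroup sigT [tLev1, tLev2]

theorem ncard_of_countFrom (p : ℕ → Bool) (S : Set (Fin 4060))
    (h : ∀ x : Fin 4060, x ∈ S ↔ p x = true) : S.ncard = countFrom p 4060 0 := by
  classical
  rw [countFrom_spec, Set.ncard_eq_toFinset_card']
  refine Finset.card_bij (fun t _ => (t : ℕ)) (fun t ht => ?_) (fun a _ b _ e => Fin.ext e) ?_
  · rw [Set.mem_toFinset] at ht
    exact Finset.mem_filter.2 ⟨Finset.mem_Ico.2 ⟨Nat.zero_le _, by omega⟩, (h t).1 ht⟩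
  · intro t ht
    obtain ⟨ht1, ht2⟩ := Finset.mem_filter.1 ht
    exact ⟨⟨t, by simpa using ht1⟩, by rw [Set.mem_toFinset]; exact (h _).2 ht2, rfl⟩

theorem allFrom_of_forall {p : ℕ → Bool} {n : ℕ} (h : ∀ t, t < n → p t = true) :
    allFrom p n 0 = true := by
  have key : ∀ (k lo : ℕ), lo + k ≤ n → allFrom p k lo = true := by
    intro k
    induction k with
    | zero => exact fun _ _ => rfl
    | succ k ih =>
      intro lo hlo
      rw [allFrom_succ, h lo (by omega), ih (lo + 1) (by omega)]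
      rfl
  exact key n 0 (by omega)

theorem levelsT_split : ctxT.levelOk [] tLev0 = true ∧
    ctxT.levelsOk [tLev1, tLev2] [tLev0.b] = true :=
  Bool.and_eq_true _ _ ▸ levelsT_ok

theorem level1_split : ctxT.levelOk [tLev0.b] tLev1 = true :=
  ((Bool.and_eq_true _ _).mp
    (show (ctxT.levelOk [tLev0.b] tLev1 && ctxT.levelsOk [tLev2] [tLev1.b, tLev0.b]) = true
      from levelsT_split.2)).1

theorem ptGroup_le_titsPerm : ptGroup ≤ titsPerm :=
  (Subgroup.closure_le _).2 fun _ hg => hg.1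

theorem levelSet_fix : ∀ g ∈ levelSet sigT tLev1, g pB = pB := by
  rintro g ⟨-, j, hj, hr⟩
  have h := level1_split
  simp only [Ctx.levelOk, Bool.and_eq_true] at h
  obtain ⟨g', -, hr', -, hfix⟩ := Ctx.level_el sigT sigT_rep slpT_ok h.1 hj
  rw [hr.unique hr']
  exact hfix pB List.mem_cons_self

theorem ptGroup_fix : ∀ g ∈ ptGroup, g pB = pB := by
  suffices h : ptGroup ≤ MulAction.stabilizer (Perm (Fin 4060)) pB from fun g hg => h hg
  exact (Subgroup.closure_le _).2 fun g hg => levelSet_fix g hg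

/-- The transversal element of a point of the orbit. -/
def tr (t : Fin 4060) : Perm (Fin 4060) := trv sigT tLev0 t

theorem trv_top {t : Fin 4060} (ht : Ctx.rank tLev0 t ≠ 0) :
    tr t ∈ titsPerm ∧ tr t pB = t := by
  obtain ⟨⟨hK, hb, -, -⟩, -⟩ := trv_spec sigT sigT_rep slpT_ok levelsT_split.1 (t := t) ht
  exact ⟨(Subgroup.closure_le _).2 (fun g hg => hg.1) hK, hb pB rfl⟩

theorem trv_root : tr pB = 1 := by
  have h0 : Ctx.rank tLev0 (pB : ℕ) ≠ 0 := by decide +kernel
  obtain ⟨⟨-, -, huf, -⟩, -⟩ := trv_spec sigT sigT_rep slpT_ok levelsT_split.1 (t := pB) h0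
  refine Equiv.ext fun y => Fin.ext ?_
  have h1 : Ctx.rank tLev0 (pB : ℕ) = 1 := by decide +kernel
  have h : ∀ z : ℕ, redo ctxT tLev0 1 (pB : ℕ) z = z := fun z => by
    simp [redo, pB]
  refine (huf y).trans ?_
  rw [h1, h]
  rfl

variable (hcard : Nat.card ruPerm = 145926144000)

include hcard

theorem mem_tits {g : Perm (Fin 4060)} (hg : g ∈ titsPerm) :
    ∃ t : Fin 4060, Ctx.rank tLev0 t ≠ 0 ∧ ∃ p ∈ ptGroup,
      g = tr t * p := by
  have h : g ∈ prodSet sigT levelsT := (levelGroup_eq_prodSet hcard).subset hg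
  obtain ⟨⟨t, p⟩, ⟨ht, hp⟩, rfl⟩ := h
  have he := levelGroup_eq sigT sigT_rep slpT_ok titsPerm le_rfl [tLev1, tLev2] [tLev0.b]
    levelsT_split.2 closed_levelsT.2.2.2 (by
      have := faithful_titsPerm hcard
      simpa [levelsT] using this)
  exact ⟨t, ht, p, he.symm.subset hp, rfl⟩

theorem orbit_iff (x : Fin 4060) :
    x ∈ MulAction.orbit titsPerm pB ↔ Ctx.rank tLev0 x ≠ 0 := by
  constructor
  · rintro ⟨⟨g, hg⟩, rfl⟩
    obtain ⟨t, ht, p, hp, rfl⟩ := mem_tits hcard hg
    change Ctx.rank tLev0 ((tr t * p) pB : Fin 4060) ≠ 0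
    rw [Perm.mul_apply, ptGroup_fix p hp, (trv_top ht).2]
    exact ht
  · intro hx
    exact ⟨⟨_, (trv_top hx).1⟩, (trv_top hx).2⟩

theorem mem_ptGroup_iff {g : Perm (Fin 4060)} (hg : g ∈ titsPerm) :
    g ∈ ptGroup ↔ g pB = pB := by
  refine ⟨ptGroup_fix g, fun h => ?_⟩
  obtain ⟨t, ht, p, hp, rfl⟩ := mem_tits hcard hg
  rw [Perm.mul_apply, ptGroup_fix p hp, (trv_top ht).2] at h
  subst h
  rw [trv_root, one_mul]
  exact hp

theorem ncard_orbit : (MulAction.orbit titsPerm pB).ncard = 1755 := by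
  rw [ncard_of_countFrom (fun x => !(Nat.beq (Ctx.rank tLev0 x) 0)) _ fun x => by
    rw [orbit_iff hcard x]; simp [Bool.eq_false_iff]]
  apply Nat.eq_of_beq_eq_true
  decide +kernel

theorem card_ptGroup : 1755 * Nat.card ptGroup = 17971200 := by
  have h := Ctx.card_orbit_mul (D := ctxT) titsPerm pB
  refine Eq.trans ?_ (card_titsPerm hcard)
  refine Eq.trans ?_ h.symm
  rw [Nat.card_coe_set_eq]
  refine congrArg₂ (· * ·) (ncard_orbit hcard).symm (congrArg (fun H : Subgroup (Perm (Fin 4060)) => Nat.card H) ?_)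
  refine le_antisymm (fun g hg => ⟨ptGroup_le_titsPerm hg, ptGroup_fix g hg⟩) fun g hg => ?_
  exact (mem_ptGroup_iff hcard hg.1).2 hg.2

omit hcard in
theorem sub_connected (i : ℕ) (hi : i < 5) (x : Fin 4060)
    (hx : Ctx.rank (subs.getD i sub0) x ≠ 0) :
    ∃ (q : Perm (Fin 4060)) (r : Fin 4060), q ∈ Subgroup.closure (Set.range sigT) ∧ q pB = pB ∧
      (r : ℕ) = (subs.getD i sub0).b ∧ q r = x := by
  have hmem : subs.getD i sub0 ∈ subs := by
    rw [List.getD_eq_getElem _ _ (show i < subs.length from hi)]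
    exact List.getElem_mem _
  have hok : ctxT.levelOk [tLev0.b] (subs.getD i sub0) = true := List.all_eq_true.1 subs_ok _ hmem
  obtain ⟨⟨hK, hb, -, -⟩, hfix⟩ := trv_spec sigT sigT_rep slpT_ok hok (t := x) hx
  have hlt : (subs.getD i sub0).b < 4060 := by
    simp only [Ctx.levelOk, Ctx.levelGensOk, Bool.and_eq_true] at hok
    exact Nat.blt_eq.mp hok.1.1.2
  exact ⟨_, ⟨_, hlt⟩, (Subgroup.closure_le _).2 (fun g hg => hg.1) hK,
    hfix pB List.mem_cons_self, rfl, hb _ rfl⟩

theorem orbit_of_overgroup (K : Subgroup (Perm (Fin 4060))) (hK : K ≤ titsPerm)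
    (hP : ptGroup ≤ K) :
    (MulAction.orbit K pB).ncard = 1 ∨ (MulAction.orbit K pB).ncard = 1755 := by
  classical
  set B := MulAction.orbit K pB with hBdef
  have hB : ∀ q ∈ K, ∀ y, y ∈ B → q y ∈ B := by
    rintro q hq y ⟨⟨k, hk⟩, rfl⟩
    exact ⟨⟨q * k, mul_mem hq hk⟩, rfl⟩
  have hsub : B ⊆ MulAction.orbit titsPerm pB := by
    rintro y ⟨⟨k, hk⟩, rfl⟩
    exact ⟨⟨k, hK hk⟩, rfl⟩
  obtain ⟨m, hm, hbit⟩ : ∃ m < 32, ∀ i < 5, (Nat.testBit m i = true ↔
      ∃ r : Fin 4060, (r : ℕ) = (subs.getD i sub0).b ∧ r ∈ B) := by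
    have key : ∀ f : Fin 5 → Bool, ∃ m : Fin 32, ∀ i : Fin 5, Nat.testBit m i = f i := by decide +kernel
    obtain ⟨m, hm⟩ := key fun i => decide (∃ r : Fin 4060, (r : ℕ) = (subs.getD i sub0).b ∧ r ∈ B)
    exact ⟨m, m.2, fun i hi => by rw [hm ⟨i, hi⟩]; simp⟩
  have hmask : ∀ x : Fin 4060, x ∈ B ↔ inMask m x = true := fun x => by
    have hcls : ∀ i < 5, Ctx.rank (subs.getD i sub0) x ≠ 0 →
        (x ∈ B ↔ Nat.testBit m i = true) := fun i hi hr => by
      obtain ⟨q, r, hq, hfix, hrb, rfl⟩ := sub_connected i hi x hr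
      have hqK : q ∈ K := hP ((mem_ptGroup_iff hcard hq).2 hfix)
      rw [hbit i hi]
      refine ⟨fun h => ⟨r, hrb, ?_⟩, fun ⟨r', hr', h⟩ => ?_⟩
      · simpa using hB q⁻¹ (inv_mem hqK) _ h
      · obtain rfl : r' = r := Fin.ext (hr'.trans hrb.symm)
        exact hB q hqK r' h
    have hin : inMask m x = true ↔
        ∃ i < 5, Nat.testBit m i = true ∧ Ctx.rank (subs.getD i sub0) x ≠ 0 := by
      rw [inMask, beq_iff_eq]
      constructor
      · intro h
        by_contra hne
        push Not at hne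
        rw [allFrom_of_forall] at h
        · exact Bool.noConfusion h
        · intro i hi
          rcases Bool.eq_false_or_eq_true (Nat.testBit m i) with e | e
          · rw [hne i hi e]; simp
          · simp [e]
      · rintro ⟨i, hi, e, hr⟩
        rw [← Bool.not_eq_true]
        intro h
        have := allFrom_spec h i (Nat.zero_le _) (by omega)
        rw [e, Bool.not_true, Bool.false_or] at this
        exact hr (Nat.eq_of_beq_eq_true this)
    rw [hin]
    constructor
    · intro h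
      have hcov := allFrom_spec cover_ok x (Nat.zero_le _) (by omega)
      have h0 : Ctx.rank tLev0 x ≠ 0 := (orbit_iff hcard x).1 (hsub h)
      have h31 : inMask 31 x = true := by simpa [h0] using hcov
      rw [inMask, beq_iff_eq] at h31
      by_contra hne
      push Not at hne
      rw [allFrom_of_forall] at h31
      · exact Bool.noConfusion h31
      · intro i hi
        by_cases hr : Ctx.rank (subs.getD i sub0) x = 0
        · rw [hr]; simp
        · exact absurd (hne i hi ((hcls i hi hr).1 h)) hr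
    · rintro ⟨i, hi, e, hr⟩
      exact (hcls i hi hr).2 e
  have h0 : Nat.testBit m 0 = true :=
    (hbit 0 (by norm_num)).2 ⟨pB, rfl, MulAction.mem_orbit_self _⟩
  have hchk := allFrom_spec mask_ok m (Nat.zero_le _) (by omega)
  rw [forceNat_eq, forceNat_eq, h0, ← ncard_of_countFrom _ B hmask] at hchk
  simp only [Bool.not_true, Bool.false_or, Bool.or_eq_true, Bool.not_eq_true'] at hchk
  have hdvd : B.ncard ∣ 1755 := by
    have hKB : Nat.card K = B.ncard * Nat.card ptGroup := by
      refine Eq.trans (Ctx.card_orbit_mul (D := ctxT) K pB) ?_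
      rw [Nat.card_coe_set_eq]
      refine congrArg₂ (· * ·) rfl (congrArg (fun H : Subgroup (Perm (Fin 4060)) => Nat.card H) ?_)
      refine le_antisymm (fun g hg => (mem_ptGroup_iff hcard (hK hg.1)).2 hg.2)
        fun g hg => ⟨hP hg, ptGroup_fix g hg⟩
    have hd := Subgroup.card_dvd_of_le hK
    rw [hKB, card_titsPerm hcard, ← card_ptGroup hcard] at hd
    exact Nat.dvd_of_mul_dvd_mul_right Nat.card_pos hd
  rcases hchk with (h | h) | h
  · exact Or.inl (Nat.eq_of_beq_eq_true h)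
  · exact Or.inr (Nat.eq_of_beq_eq_true h)
  · rw [show Nat.mod 1755 B.ncard = 0 from Nat.mod_eq_zero_of_dvd hdvd] at h
    simp at h

/-- The action on the orbit is primitive. -/
theorem isPreprimitive :
    MulAction.IsPreprimitive titsPerm (MulAction.orbit titsPerm pB) := by
  have : Nontrivial (MulAction.orbit titsPerm pB) := by
    rw [← Finite.one_lt_card_iff_nontrivial, Nat.card_coe_set_eq, ncard_orbit hcard]
    norm_num
  have htr : MulAction.IsPretransitive titsPerm (MulAction.orbit titsPerm pB) := inferInstance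
  set a : MulAction.orbit titsPerm pB := ⟨pB, MulAction.mem_orbit_self _⟩
  rw [← MulAction.isCoatom_stabilizer_iff_preprimitive (G := titsPerm) a]
  have hst : ∀ g : titsPerm, g ∈ MulAction.stabilizer titsPerm a ↔ (g : Perm (Fin 4060)) pB = pB :=
    fun g => ⟨fun h => congrArg Subtype.val h, fun h => Subtype.ext h⟩
  refine ⟨fun h => ?_, fun K hK => ?_⟩
  · obtain ⟨y, hy⟩ := exists_ne a
    obtain ⟨g, hg⟩ := MulAction.exists_smul_eq titsPerm a y
    exact hy (hg ▸ MulAction.mem_stabilizer_iff.1 (h ▸ Subgroup.mem_top g : g ∈ MulAction.stabilizer titsPerm a))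
  · set K' := K.map titsPerm.subtype with hK'
    have hle : K' ≤ titsPerm := by rintro _ ⟨g, -, rfl⟩; exact g.2
    have hPK : ptGroup ≤ K' := fun g hg =>
      ⟨⟨g, ptGroup_le_titsPerm hg⟩, hK.le ((hst _).2 (ptGroup_fix g hg)), rfl⟩
    rcases orbit_of_overgroup hcard K' hle hPK with h | h
    · obtain ⟨g, hgK, hgs⟩ := SetLike.exists_of_lt hK
      refine absurd ((hst g).2 ?_) hgs
      obtain ⟨c, hc⟩ := Set.ncard_eq_one.1 h
      have h1 : (g : Perm (Fin 4060)) pB ∈ MulAction.orbit K' pB := ⟨⟨g, ⟨g, hgK, rfl⟩⟩, rfl⟩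
      have h2 := MulAction.mem_orbit_self (M := K') pB
      rw [hc, Set.mem_singleton_iff] at h1 h2
      rw [h1, h2]
    · rw [eq_top_iff]
      intro g _
      have heq : MulAction.orbit K' pB = MulAction.orbit titsPerm pB := by
        refine Set.eq_of_subset_of_ncard_le ?_ (by rw [h, ncard_orbit hcard])
        rintro y ⟨⟨k, hk⟩, rfl⟩
        exact ⟨⟨k, hle hk⟩, rfl⟩
      have hg : (g : Perm (Fin 4060)) pB ∈ MulAction.orbit K' pB := by
        rw [heq]; exact ⟨g, rfl⟩
      obtain ⟨⟨_, k, hk, rfl⟩, hkg⟩ := hg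
      have hkg' : (k : Perm (Fin 4060)) pB = (g : Perm (Fin 4060)) pB := hkg
      have : k⁻¹ * g ∈ MulAction.stabilizer titsPerm a := (hst _).2 (by
        rw [Subgroup.coe_mul, Perm.mul_apply, Subgroup.coe_inv, Perm.inv_eq_iff_eq, hkg'])
      simpa using K.mul_mem hk (hK.le this)

omit hcard in
/-- The first generator. -/
def zT : titsPerm := ⟨sigT ⟨0, Nat.blt_eq.mp rfl⟩, Subgroup.subset_closure ⟨_, rfl⟩⟩

omit hcard in
theorem commute_z {q : Perm (Fin 4060)} (hq : q ∈ ptGroup) :
    q * (zT : Perm (Fin 4060)) = (zT : Perm (Fin 4060)) * q := by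
  suffices h : ptGroup ≤ Subgroup.centralizer {(zT : Perm (Fin 4060))} by
    exact (Subgroup.mem_centralizer_singleton_iff.1 (h hq))
  refine (Subgroup.closure_le _).2 fun g hg => Subgroup.mem_centralizer_singleton_iff.2 ?_
  obtain ⟨-, j, hj, hr⟩ := hg
  have hj' := allFrom_spec central_ok j (Nat.zero_le _) (by omega)
  rw [forceNat_eq] at hj'
  refine Equiv.ext fun x : Fin 4060 => Fin.ext ?_
  have hx := Ctx.pts_spec (D := ctxT) hj' x
  show ((g (sigT _ x) : Fin ctxT.n) : ℕ) = ((sigT _ (g x) : Fin ctxT.n) : ℕ)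
  refine (hr _).trans ((congrArg _ (sigT_rep _ x)).trans (hx.symm.trans ?_))
  exact ((sigT_rep ⟨0, Nat.blt_eq.mp rfl⟩ (g x)).trans (congrArg _ (hr x))).symm

theorem conj_z_eq {g h : titsPerm}
    (e : (g : Perm (Fin 4060)) pB = (h : Perm (Fin 4060)) pB) :
    g * zT * g⁻¹ = h * zT * h⁻¹ := by
  have hq : ((h⁻¹ * g : titsPerm) : Perm (Fin 4060)) ∈ ptGroup := by
    rw [mem_ptGroup_iff hcard (h⁻¹ * g).2, Subgroup.coe_mul, Perm.mul_apply, Subgroup.coe_inv,
      Perm.inv_eq_iff_eq, e]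
  have hc : h⁻¹ * g * zT = zT * (h⁻¹ * g) := Subtype.ext (commute_z hq)
  have hc' : g * zT = h * zT * h⁻¹ * g := by
    calc g * zT = h * (h⁻¹ * g * zT) := by group
      _ = h * (zT * (h⁻¹ * g)) := by rw [hc]
      _ = h * zT * h⁻¹ * g := by group
  rw [hc', mul_inv_cancel_right]

omit hcard in
theorem conj_gen (c : Fin ctxT.gens.length) :
    ∃ w : titsPerm, (⟨sigT c, Subgroup.subset_closure ⟨c, rfl⟩⟩ : titsPerm) = w * zT * w⁻¹ := by
  obtain ⟨_ | j, hc⟩ := c
  · exact ⟨1, by rw [one_mul, inv_one, mul_one]; rfl⟩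
  have hj : j < 3 := by change j + 1 < 4 at hc; omega
  have hch := allFrom_spec conj_ok j (Nat.zero_le _) (by omega)
  simp only [forceNat_eq, Bool.and_eq_true] at hch
  obtain ⟨w, hw, hwr⟩ := Ctx.el_mem sigT sigT_rep slpT_ok _ (Nat.blt_eq.mp hch.1)
  refine ⟨⟨w, hw⟩, Subtype.ext ?_⟩
  show sigT ⟨j + 1, hc⟩ = w * sigT ⟨0, _⟩ * w⁻¹
  rw [eq_mul_inv_iff_mul_eq]
  refine Equiv.ext fun x => Fin.ext ?_
  have hx := Ctx.pts_spec hch.2 x
  rw [Perm.mul_apply, Perm.mul_apply, sigT_rep, hwr, hwr, sigT_rep]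
  exact hx

omit hcard in
theorem z_commutator : zT ∈ commutator titsPerm := by
  have h := comm_ok
  simp only [forceNat_eq, Bool.and_eq_true] at h
  obtain ⟨x, hx, hxr⟩ := Ctx.el_mem sigT sigT_rep slpT_ok _ (Nat.blt_eq.mp h.1.1)
  obtain ⟨y, hy, hyr⟩ := Ctx.el_mem sigT sigT_rep slpT_ok _ (Nat.blt_eq.mp h.1.2)
  have e : sigT ⟨0, Nat.blt_eq.mp rfl⟩ = x * y * x⁻¹ * y⁻¹ := by
    rw [eq_mul_inv_iff_mul_eq, eq_mul_inv_iff_mul_eq]
    refine Equiv.ext fun t => Fin.ext ?_
    have ht := Ctx.pts_spec h.2 t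
    show ((sigT _ (y (x t)) : Fin ctxT.n) : ℕ) = ((x (y t) : Fin ctxT.n) : ℕ)
    rw [sigT_rep, hyr, hxr, hxr, hyr]
    exact ht
  have e' : zT = (⟨x, hx⟩ : titsPerm) * ⟨y, hy⟩ * (⟨x, hx⟩ : titsPerm)⁻¹ * (⟨y, hy⟩ : titsPerm)⁻¹ :=
    Subtype.ext e
  rw [e', ← commutatorElement_def, commutator_def]
  exact Subgroup.commutator_mem_commutator (Subgroup.mem_top _) (Subgroup.mem_top _)

theorem perfect : commutator titsPerm = ⊤ := by
  rw [eq_top_iff]
  intro g _
  have hle : titsPerm ≤ (commutator titsPerm).map titsPerm.subtype := by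
    refine (Subgroup.closure_le _).2 ?_
    rintro _ ⟨c, rfl⟩
    obtain ⟨w, hw⟩ := conj_gen c
    exact ⟨_, (inferInstance : (commutator titsPerm).Normal).conj_mem _ z_commutator w,
      (congrArg Subtype.val hw).symm⟩
  obtain ⟨g', hg', e⟩ := hle g.2
  rwa [← Subtype.ext e]

/-- An element mapping the base point to a point of the orbit. -/
def mover (x : MulAction.orbit titsPerm pB) : titsPerm := x.2.choose

omit hcard in
theorem mover_spec (x : MulAction.orbit titsPerm pB) :
    (mover x : Perm (Fin 4060)) pB = x := x.2.choose_spec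

/-- The Iwasawa structure given by the central involutions of the point stabilisers. -/
def iwasawa : MulAction.IwasawaStructure titsPerm (MulAction.orbit titsPerm pB) where
  T x := Subgroup.zpowers (mover x * zT * (mover x)⁻¹)
  is_comm _ := inferInstance
  is_conj g x := by
    show _ = Subgroup.map (MulAut.conj g).toMonoidHom _
    rw [MonoidHom.map_zpowers]
    congr 1
    show _ = g * (mover x * zT * (mover x)⁻¹) * g⁻¹
    rw [conj_z_eq hcard (g := mover (g • x)) (h := g * mover x) (by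
      rw [mover_spec, Subgroup.coe_mul, Perm.mul_apply, mover_spec]; rfl)]
    group
  is_generator := by
    rw [eq_top_iff]
    intro g _
    have hle : titsPerm ≤ (⨆ x : MulAction.orbit titsPerm pB,
        Subgroup.zpowers (mover x * zT * (mover x)⁻¹)).map titsPerm.subtype := by
      refine (Subgroup.closure_le _).2 ?_
      rintro _ ⟨c, rfl⟩
      obtain ⟨w, hw⟩ := conj_gen c
      refine ⟨w * zT * w⁻¹, ?_, (congrArg Subtype.val hw).symm⟩
      let x : MulAction.orbit titsPerm pB := ⟨(w : Perm (Fin 4060)) pB, w, rfl⟩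
      refine Subgroup.mem_iSup_of_mem x ?_
      rw [conj_z_eq hcard (g := w) (h := mover x) (mover_spec x).symm]
      exact Subgroup.mem_zpowers _
    obtain ⟨g', hg', e⟩ := hle g.2
    rwa [← Subtype.ext e]

theorem isTits_titsPerm : Cfsg.IsTits titsPerm := by
  refine ⟨?_, card_titsPerm hcard⟩
  have : Nontrivial titsPerm := by
    rw [← Finite.one_lt_card_iff_nontrivial, card_titsPerm hcard]
    norm_num
  have := isPreprimitive hcard
  have hF : FaithfulSMul titsPerm (MulAction.orbit titsPerm pB) := by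
    refine ⟨fun {a b} h => ?_⟩
    have h1 : (b⁻¹ * a : titsPerm) = 1 := by
      refine Subtype.ext (faithful_titsPerm hcard _ (b⁻¹ * a).2 fun x hx => ?_)
      have hx' : (x : ℕ) ∈ levelsT.map Level.b := by simpa using hx
      obtain ⟨L, hL, hLx⟩ := List.mem_map.1 hx'
      have hr := List.all_eq_true.1 roots_ok L hL
      have hxo : x ∈ MulAction.orbit titsPerm pB := (orbit_iff hcard x).2 (by
        rw [← hLx]; intro e; simp [e] at hr)
      have hab : (a : Perm (Fin 4060)) x = (b : Perm (Fin 4060)) x :=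
        congrArg Subtype.val (h ⟨x, hxo⟩)
      show (b : Perm (Fin 4060))⁻¹ ((a : Perm (Fin 4060)) x) = x
      rw [hab]
      exact (b : Perm (Fin 4060)).symm_apply_apply x
    exact (inv_mul_eq_one.1 h1).symm
  exact MulAction.IwasawaStructure.isSimpleGroup (perfect hcard) (iwasawa hcard) hF

/-- The stabiliser of the first point in the Rudvalis permutation group contains a group with the
predicate of the Tits group. -/
theorem exists_tits_in_stabilizer :
    ∃ T : Subgroup (Perm (Fin 4060)),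
      T ≤ ruPerm ∧ (∀ g ∈ T, g (0 : Fin 4060) = 0) ∧ Cfsg.IsTits T :=
  ⟨titsPerm, titsPerm_le, titsPerm_zero, isTits_titsPerm hcard⟩

end

end Cfsg.Agent.H56.RuTits
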